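import Mathlib.Topology.Sheaves.Functors
import Mathlib.Topology.Sheaves.Stalks
import Mathlib.Topology.Sheaves.SheafCondition.UniqueGluing
import Mathlib.CategoryTheory.EssentialImage

/-!
# Sheaves of sets on a topological space: restriction, locality, gluing, germs
-/

set_option autoImplicit false
universe u
open CategoryTheory CategoryTheory.Limits Opposite TopologicalSpace

namespace Groth.Agent.Lib.Helper2.SetSh

variable {X : TopCat.{u}}

section Res

variable (F : X.Sheaf (Type u))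

/-- restriction of sections -/
def res {V W : Opens X} (h : W ≤ V) (t : F.presheaf.obj (op V)) : F.presheaf.obj (op W) :=
  F.presheaf.map (homOfLE h).op t

variable {F}

@[simp] lemma res_self {V : Opens X} (h : V ≤ V) (t : F.presheaf.obj (op V)) : res F h t = t := by
  unfold res
  have : (homOfLE h).op = 𝟙 (op V) := rfl
  rw [this, FunctorToTypes.map_id_apply]

lemma res_res {V W W' : Opens X} (h : W ≤ V) (k : W' ≤ W) (t : F.presheaf.obj (op V)) :
    res F k (res F h t) = res F (k.trans h) t := by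
  unfold res
  rw [← FunctorToTypes.map_comp_apply]
  rfl

lemma map_eq_res {V W : Opens X} (g : op V ⟶ op W) (t : F.presheaf.obj (op V)) :
    F.presheaf.map g t = res F (leOfHom g.unop) t := rfl

lemma hom_res {F' : X.Sheaf (Type u)} (φ : F ⟶ F') {V W : Opens X} (h : W ≤ V)
    (t : F.presheaf.obj (op V)) :
    φ.hom.app (op W) (res F h t) = res F' h (φ.hom.app (op V) t) :=
  FunctorToTypes.naturality φ.hom (homOfLE h).op t

variable (F)

theorem eq_of_locally {V : Opens X} (s s' : F.presheaf.obj (op V))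
    (h : ∀ x ∈ V, ∃ (W : Opens X) (hW : W ≤ V), x ∈ W ∧ res F hW s = res F hW s') : s = s' := by
  choose W hW hxW e using h
  refine F.eq_of_locally_eq' (fun p : V => W p.1 p.2) V (fun p => homOfLE (hW p.1 p.2)) ?_ s s'
    (fun p => e p.1 p.2)
  intro x hx
  exact Opens.mem_iSup.2 ⟨⟨x, hx⟩, hxW x hx⟩

theorem exists_glue {V : Opens X} {J : Type*} (W : J → Opens X) (hW : ∀ j, W j ≤ V)
    (hcov : ∀ x ∈ V, ∃ j, x ∈ W j) (σ : ∀ j, F.presheaf.obj (op (W j)))
    (hcompat : ∀ j j', res F (inf_le_left : W j ⊓ W j' ≤ W j) (σ j) =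
      res F (inf_le_right : W j ⊓ W j' ≤ W j') (σ j')) :
    ∃ s : F.presheaf.obj (op V), ∀ j, res F (hW j) s = σ j := by
  obtain ⟨s, hs, -⟩ := F.existsUnique_gluing' W V (fun j => homOfLE (hW j))
    (fun x hx => Opens.mem_iSup.2 (hcov x hx)) σ (fun j j' => hcompat j j')
  exact ⟨s, hs⟩

end Res

section Germ

variable (F : X.Sheaf (Type u))

/-- the germ of a section -/
noncomputable def gm (x : X) {V : Opens X} (hx : x ∈ V) (s : F.presheaf.obj (op V)) :
    F.presheaf.stalk x :=
  F.presheaf.germ V x hx s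

variable {F}

lemma gm_res (x : X) {V W : Opens X} (h : W ≤ V) (hx : x ∈ W) (s : F.presheaf.obj (op V)) :
    gm F x hx (res F h s) = gm F x (h hx) s :=
  F.presheaf.germ_res_apply (homOfLE h) x hx s

lemma gm_surj (x : X) (g : F.presheaf.stalk x) :
    ∃ (V : Opens X) (hx : x ∈ V) (s : F.presheaf.obj (op V)), gm F x hx s = g :=
  F.presheaf.exists_germ_eq g

lemma gm_eq_iff (x : X) {V V' : Opens X} (hx : x ∈ V) (hx' : x ∈ V') (s : F.presheaf.obj (op V))
    (s' : F.presheaf.obj (op V')) :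
    gm F x hx s = gm F x hx' s' ↔
      ∃ (W : Opens X) (hW : W ≤ V) (hW' : W ≤ V'), x ∈ W ∧ res F hW s = res F hW' s' := by
  constructor
  · intro h
    obtain ⟨W, hxW, iU, iV, e⟩ := F.presheaf.germ_eq x hx hx' s s' h
    exact ⟨W, leOfHom iU, leOfHom iV, hxW, e⟩
  · rintro ⟨W, hW, hW', hxW, e⟩
    rw [← gm_res x hW hxW, ← gm_res x hW' hxW, e]

lemma stalkMap_gm {F' : X.Sheaf (Type u)} (φ : F ⟶ F') (x : X) {V : Opens X} (hx : x ∈ V)
    (s : F.presheaf.obj (op V)) :
    (TopCat.Presheaf.stalkFunctor (Type u) x).map φ.hom (gm F x hx s) =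
      gm F' x hx (φ.hom.app (op V) s) :=
  TopCat.Presheaf.stalkFunctor_map_germ_apply V x hx φ.hom s

end Germ

end Groth.Agent.Lib.Helper2.SetSh
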