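import Groth.Agent.Lib.Helper2.SetSh.Closed

/-!
# Morphisms to a direct image of sheaves of sets from maps on bases
-/

set_option autoImplicit false
universe u
open CategoryTheory CategoryTheory.Limits Opposite TopologicalSpace

namespace Groth.Agent.Lib.Helper2.SetSh

variable {X Y : TopCat.{u}} (f : X ⟶ Y) (F : X.Sheaf (Type u)) (G : Y.Sheaf (Type u))
    {BX : Set (Opens X)} (hBX : Opens.IsBasis BX) {BY : Set (Opens Y)} (hBY : Opens.IsBasis BY)
    (φ : ∀ (V : BY) (U : BX), (U : Opens X) ≤ pre f V →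
      (G.presheaf.obj (op (V : Opens Y)) → F.presheaf.obj (op (U : Opens X))))
    (hφ : ∀ (V V' : BY) (U U' : BX) (hUV : (U : Opens X) ≤ pre f V)
      (hU'V' : (U' : Opens X) ≤ pre f V') (hV : (V' : Opens Y) ≤ V) (hU : (U' : Opens X) ≤ U)
      (s : G.presheaf.obj (op (V : Opens Y))),
      res F hU (φ V U hUV s) = φ V' U' hU'V' (res G hV s))

include hBX hBY in
lemma exists_basis_pair (V : Opens Y) (x : X) (hx : x ∈ pre f V) :
    ∃ (V' : BY) (U' : BX), (V' : Opens Y) ≤ V ∧ (U' : Opens X) ≤ pre f V' ∧ x ∈ (U' : Opens X) := by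
  obtain ⟨V', hV'B, hxV', hV'⟩ := Opens.isBasis_iff_nbhd.1 hBY (U := V) (x := f x) hx
  obtain ⟨U', hU'B, hxU', hU'⟩ := Opens.isBasis_iff_nbhd.1 hBX (U := pre f V') (x := x) hxV'
  exact ⟨⟨V', hV'B⟩, ⟨U', hU'B⟩, hV', hU', hxU'⟩

include hBX hBY hφ in
theorem psi_exists (V : Opens Y) (s : G.presheaf.obj (op V)) :
    ∃ t : F.presheaf.obj (op (pre f V)), ∀ (V' : BY) (U' : BX) (hV' : (V' : Opens Y) ≤ V)
      (hU' : (U' : Opens X) ≤ pre f V'),
      res F (hU'.trans (pre_mono f hV')) t = φ V' U' hU' (res G hV' s) := by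
  let J := {p : BY × BX // (p.1 : Opens Y) ≤ V ∧ (p.2 : Opens X) ≤ pre f p.1}
  obtain ⟨t, ht⟩ := exists_glue F (V := pre f V) (fun j : J => (j.1.2 : Opens X))
    (fun j => j.2.2.trans (pre_mono f j.2.1))
    (fun x hx => by
      obtain ⟨V', U', hV', hU', hxU'⟩ := exists_basis_pair f hBX hBY V x hx
      exact ⟨⟨(V', U'), hV', hU'⟩, hxU'⟩)
    (fun j => φ j.1.1 j.1.2 j.2.2 (res G j.2.1 s))
    (by
      intro j j'
      apply eq_of_locally F
      rintro x ⟨hx, hx'⟩
      have hfx : f x ∈ ((j.1.1 : Opens Y) ⊓ (j'.1.1 : Opens Y) : Opens Y) := ⟨j.2.2 hx, j'.2.2 hx'⟩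
      obtain ⟨V'', hV''B, hxV'', hV''⟩ := Opens.isBasis_iff_nbhd.1 hBY hfx
      have hx2 : x ∈ (((j.1.2 : Opens X) ⊓ (j'.1.2 : Opens X)) ⊓ pre f V'' : Opens X) :=
        ⟨⟨hx, hx'⟩, hxV''⟩
      obtain ⟨U'', hU''B, hxU'', hU''⟩ := Opens.isBasis_iff_nbhd.1 hBX hx2
      refine ⟨U'', hU''.trans inf_le_left, hxU'', ?_⟩
      rw [res_res, res_res]
      have e1 := hφ j.1.1 ⟨V'', hV''B⟩ j.1.2 ⟨U'', hU''B⟩ j.2.2 (hU''.trans inf_le_right)
        (hV''.trans inf_le_left) (hU''.trans (inf_le_left.trans inf_le_left)) (res G j.2.1 s)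
      have e2 := hφ j'.1.1 ⟨V'', hV''B⟩ j'.1.2 ⟨U'', hU''B⟩ j'.2.2 (hU''.trans inf_le_right)
        (hV''.trans inf_le_right) (hU''.trans (inf_le_left.trans inf_le_right)) (res G j'.2.1 s)
      rw [res_res] at e1 e2
      exact e1.trans e2.symm)
  refine ⟨t, ?_⟩
  intro V' U' hV' hU'
  exact ht ⟨(V', U'), hV', hU'⟩

/-- the map on sections -/
noncomputable def psiApp (V : Opens Y) (s : G.presheaf.obj (op V)) :
    F.presheaf.obj (op (pre f V)) :=
  (psi_exists f F G hBX hBY φ hφ V s).choose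

lemma psiApp_spec (V : Opens Y) (s : G.presheaf.obj (op V)) (V' : BY) (U' : BX)
    (hV' : (V' : Opens Y) ≤ V) (hU' : (U' : Opens X) ≤ pre f V') :
    res F (hU'.trans (pre_mono f hV')) (psiApp f F G hBX hBY φ hφ V s) =
      φ V' U' hU' (res G hV' s) :=
  (psi_exists f F G hBX hBY φ hφ V s).choose_spec V' U' hV' hU'

include hBX hBY in
lemma eq_of_basis (V : Opens Y) (t t' : F.presheaf.obj (op (pre f V)))
    (h : ∀ (V' : BY) (U' : BX) (hV' : (V' : Opens Y) ≤ V) (hU' : (U' : Opens X) ≤ pre f V'),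
      res F (hU'.trans (pre_mono f hV')) t = res F (hU'.trans (pre_mono f hV')) t') : t = t' := by
  apply eq_of_locally F
  intro x hx
  obtain ⟨V', U', hV', hU', hxU'⟩ := exists_basis_pair f hBX hBY V x hx
  exact ⟨U', hU'.trans (pre_mono f hV'), hxU', h V' U' hV' hU'⟩

lemma psiApp_res {V W : Opens Y} (h : W ≤ V) (s : G.presheaf.obj (op V)) :
    psiApp f F G hBX hBY φ hφ W (res G h s) =
      res F (pre_mono f h) (psiApp f F G hBX hBY φ hφ V s) := by
  apply eq_of_basis f F hBX hBY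
  intro V' U' hV' hU'
  rw [psiApp_spec f F G hBX hBY φ hφ W (res G h s) V' U' hV' hU', res_res, res_res,
    psiApp_spec f F G hBX hBY φ hφ V s V' U' (hV'.trans h) hU']

/-- the morphism to the direct image -/
noncomputable def psiHom : G ⟶ pushObj f F :=
  ⟨{ app := fun V => ↾(fun s => ofF f F (psiApp f F G hBX hBY φ hφ V.unop s))
     naturality := by
      intro V W g
      refine ConcreteCategory.hom_ext _ _ (fun s => ?_)
      exact psiApp_res f F G hBX hBY φ hφ (leOfHom g.unop) s }⟩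

include hBX hBY hφ in
theorem existsUnique_psi :
    ∃! ψ : G ⟶ pushObj f F, ∀ (V : BY) (U : BX) (hUV : (U : Opens X) ≤ pre f V)
      (s : G.presheaf.obj (op (V : Opens Y))),
      res F hUV (toF f F (ψ.hom.app (op (V : Opens Y)) s)) = φ V U hUV s := by
  refine ⟨psiHom f F G hBX hBY φ hφ, ?_, ?_⟩
  · intro V U hUV s
    have h := psiApp_spec f F G hBX hBY φ hφ V s V U le_rfl hUV
    rw [res_self] at h
    exact h
  · intro ψ' hψ'
    apply Sheaf.hom_ext
    apply NatTrans.ext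
    funext V
    refine ConcreteCategory.hom_ext _ _ (fun s => ?_)
    induction V with
    | op V =>
      apply toF_injective f F
      apply eq_of_basis f F hBX hBY
      intro V' U' hV' hU'
      show res F _ (toF f F (ψ'.hom.app (op V) s)) = res F _ (psiApp f F G hBX hBY φ hφ V s)
      rw [psiApp_spec f F G hBX hBY φ hφ V s V' U' hV' hU', ← hψ' V' U' hU' (res G hV' s),
        hom_res, toF_res, res_res]

end Groth.Agent.Lib.Helper2.SetSh
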