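import Groth.Agent.Lib.Helper2.SetSh.Basic

/-!
# Direct image of sheaves of sets along a closed embedding
-/

set_option autoImplicit false
universe u
open CategoryTheory CategoryTheory.Limits Opposite TopologicalSpace

namespace Groth.Agent.Lib.Helper2.SetSh

section Push

variable {Z X : TopCat.{u}} (i : Z ⟶ X) (F : Z.Sheaf (Type u))

/-- preimage of opens -/
abbrev pre (V : Opens X) : Opens Z := (Opens.map i).obj V

lemma pre_mono {V W : Opens X} (h : W ≤ V) : pre i W ≤ pre i V := (Opens.map i).monotone h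

/-- the direct image -/
noncomputable abbrev pushObj : X.Sheaf (Type u) := (TopCat.Sheaf.pushforward (Type u) i).obj F

/-- a section of the direct image as a section of the sheaf -/
def toF {V : Opens X} (t : (pushObj i F).presheaf.obj (op V)) : F.presheaf.obj (op (pre i V)) := t

/-- a section of the sheaf over a preimage as a section of the direct image -/
def ofF {V : Opens X} (t : F.presheaf.obj (op (pre i V))) : (pushObj i F).presheaf.obj (op V) := t

@[simp] lemma toF_ofF {V : Opens X} (t : F.presheaf.obj (op (pre i V))) :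
    toF i F (ofF i F t) = t := rfl

@[simp] lemma ofF_toF {V : Opens X} (t : (pushObj i F).presheaf.obj (op V)) :
    ofF i F (toF i F t) = t := rfl

lemma toF_res {V W : Opens X} (h : W ≤ V) (t : (pushObj i F).presheaf.obj (op V)) :
    toF i F (res (pushObj i F) h t) = res F (pre_mono i h) (toF i F t) := rfl

lemma toF_injective {V : Opens X} : Function.Injective (toF i F (V := V)) := fun _ _ h => h

lemma push_map_apply {F F' : Z.Sheaf (Type u)} (φ : F ⟶ F') (V : Opens X)
    (t : (pushObj i F).presheaf.obj (op V)) :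
    toF i F' (((TopCat.Sheaf.pushforward (Type u) i).map φ).hom.app (op V) t) =
      φ.hom.app (op (pre i V)) (toF i F t) := rfl

end Push

section Empty

variable {Z : TopCat.{u}} (F : Z.Sheaf (Type u))

lemma eq_of_empty {V : Opens Z} (hV : ∀ z, z ∉ V) (t t' : F.presheaf.obj (op V)) : t = t' :=
  eq_of_locally F t t' (fun z hz => absurd hz (hV z))

lemma nonempty_of_empty {V : Opens Z} (hV : ∀ z, z ∉ V) : Nonempty (F.presheaf.obj (op V)) := by
  obtain ⟨s, -⟩ := exists_glue F (V := V) (J := PEmpty.{1}) (fun j => j.elim) (fun j => j.elim)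
    (fun x hx => absurd hx (hV x)) (fun j => j.elim) (fun j => j.elim)
  exact ⟨s⟩

end Empty

section Til

variable {Z X : TopCat.{u}} {i : Z ⟶ X} (hi : Topology.IsClosedEmbedding i)

/-- the largest open of `X` with a given preimage -/
def til (U : Opens Z) : Opens X :=
  ⟨(i '' ((U : Set Z)ᶜ))ᶜ, (hi.isClosedMap _ U.isOpen.isClosed_compl).isOpen_compl⟩

lemma pre_til_le (U : Opens Z) : pre i (til hi U) ≤ U := by
  intro z hz
  by_contra hzU
  exact hz ⟨z, hzU, rfl⟩

lemma le_pre_til (U : Opens Z) : U ≤ pre i (til hi U) := by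
  rintro z hz ⟨z', hz', e⟩
  have : z' = z := hi.injective e
  exact hz' (this ▸ hz)

lemma le_til_pre (V : Opens X) : V ≤ til hi (pre i V) := by
  rintro x hx ⟨z, hz, rfl⟩
  exact hz hx

lemma til_mono {U U' : Opens Z} (h : U ≤ U') : til hi U ≤ til hi U' := by
  rintro x hx ⟨z, hz, rfl⟩
  exact hx ⟨z, fun hzU => hz (h hzU), rfl⟩

lemma til_inf_le (U U' : Opens Z) : til hi U ⊓ til hi U' ≤ til hi (U ⊓ U') := by
  rintro x ⟨hx, hx'⟩ ⟨z, hz, rfl⟩
  by_cases h : z ∈ U
  · exact hx' ⟨z, fun h' => hz ⟨h, h'⟩, rfl⟩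
  · exact hx ⟨z, h, rfl⟩

include hi in
lemma exists_open_pre (UZ : Opens Z) (z : Z) (hz : z ∈ UZ) (V : Opens X) (hV : i z ∈ V) :
    ∃ U : Opens X, U ≤ V ∧ i z ∈ U ∧ pre i U ≤ UZ := by
  obtain ⟨t, ht, he⟩ := hi.isInducing.isOpen_iff.1 UZ.isOpen
  refine ⟨⟨t, ht⟩ ⊓ V, inf_le_right, ⟨?_, hV⟩, ?_⟩
  · have : z ∈ i ⁻¹' t := by rw [he]; exact hz
    exact this
  · intro z' hz'
    have : z' ∈ i ⁻¹' t := hz'.1
    rw [he] at this
    exact this

/-- the complement of the image -/
def complRange : Opens X := ⟨(Set.range i)ᶜ, hi.isClosed_range.isOpen_compl⟩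

lemma pre_complRange (W : Opens X) (hW : W ≤ complRange hi) (z : Z) : z ∉ pre i W := by
  intro hz
  exact hW hz ⟨z, rfl⟩

/-- `til` as a functor -/
def tilF : Opens Z ⥤ Opens X where
  obj U := til hi U
  map f := homOfLE (til_mono hi (leOfHom f))

end Til

section FullFaithful

variable {Z X : TopCat.{u}} {i : Z ⟶ X} (hi : Topology.IsClosedEmbedding i)
  {F F' : Z.Sheaf (Type u)}

include hi in
theorem push_faithful : (TopCat.Sheaf.pushforward (Type u) i).Faithful := by
  constructor
  intro F F' φ φ' h
  apply Sheaf.hom_ext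
  apply NatTrans.ext
  funext U
  refine ConcreteCategory.hom_ext _ _ (fun t => ?_)
  induction U with
  | op U =>
    apply eq_of_locally F'
    intro z hz
    obtain ⟨V, -, hzV, hVU⟩ := exists_open_pre hi U z hz ⊤ trivial
    refine ⟨pre i V, hVU, hzV, ?_⟩
    rw [← hom_res, ← hom_res]
    have h1 := congrArg (fun ψ => toF i F' (ψ.hom.app (op V) (ofF i F (res F hVU t)))) h
    exact h1

/-- the map on sections over an arbitrary open of `Z` induced by a morphism of direct images -/
noncomputable def fullApp (ψ : pushObj i F ⟶ pushObj i F') (U : Opens Z)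
    (t : F.presheaf.obj (op U)) : F'.presheaf.obj (op U) :=
  res F' (le_pre_til hi U)
    (toF i F' (ψ.hom.app (op (til hi U)) (ofF i F (res F (pre_til_le hi U) t))))

lemma fullApp_pre (ψ : pushObj i F ⟶ pushObj i F') (V : Opens X)
    (t : (pushObj i F).presheaf.obj (op V)) :
    fullApp hi ψ (pre i V) (toF i F t) = toF i F' (ψ.hom.app (op V) t) := by
  unfold fullApp
  have hV : V ≤ til hi (pre i V) := le_til_pre hi V
  have h1 : ψ.hom.app (op V) t = res (pushObj i F') hV
      (ψ.hom.app (op (til hi (pre i V)))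
        (ofF i F (res F (pre_til_le hi (pre i V)) (toF i F t)))) := by
    rw [← hom_res]
    congr 1
    apply toF_injective i F
    rw [toF_res, toF_ofF, res_res, res_self]
  rw [h1, toF_res]

lemma fullApp_res (ψ : pushObj i F ⟶ pushObj i F') {U U' : Opens Z} (h : U' ≤ U)
    (t : F.presheaf.obj (op U)) :
    fullApp hi ψ U' (res F h t) = res F' h (fullApp hi ψ U t) := by
  unfold fullApp
  have hT : til hi U' ≤ til hi U := til_mono hi h
  have h1 : ofF i F (res F (pre_til_le hi U') (res F h t)) =
      res (pushObj i F) hT (ofF i F (res F (pre_til_le hi U) t)) := by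
    apply toF_injective i F
    rw [toF_res, toF_ofF, toF_ofF, res_res, res_res]
  rw [h1, hom_res, toF_res, res_res, res_res]

/-- the preimage of a morphism of direct images -/
noncomputable def fullHom (ψ : pushObj i F ⟶ pushObj i F') : F ⟶ F' :=
  ⟨{ app := fun U => ↾(fullApp hi ψ U.unop)
     naturality := by
      intro U U' f
      refine ConcreteCategory.hom_ext _ _ (fun t => ?_)
      exact fullApp_res hi ψ (leOfHom f.unop) t }⟩

include hi in
theorem push_full : (TopCat.Sheaf.pushforward (Type u) i).Full := by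
  constructor
  intro F F' ψ
  refine ⟨fullHom hi ψ, ?_⟩
  apply Sheaf.hom_ext
  apply NatTrans.ext
  funext Y
  refine ConcreteCategory.hom_ext _ _ (fun t => ?_)
  induction Y with
  | op V => exact fullApp_pre hi ψ V t

end FullFaithful

end Groth.Agent.Lib.Helper2.SetSh
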