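import Groth.Agent.Lib.Helper2.SetSh.Closed

/-!
# Essential image of the direct image of sheaves of sets along a closed embedding
-/

set_option autoImplicit false
universe u
open CategoryTheory CategoryTheory.Limits Opposite TopologicalSpace

namespace Groth.Agent.Lib.Helper2.SetSh

variable {Z X : TopCat.{u}} {i : Z ⟶ X} (hi : Topology.IsClosedEmbedding i)
  (G : X.Sheaf (Type u))

/-- sections over opens missing the image are unique -/
def OnePt : Prop :=
  ∀ W : Opens X, W ≤ complRange hi →
    (Nonempty (G.presheaf.obj (op W)) ∧ ∀ s s' : G.presheaf.obj (op W), s = s')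

theorem onePt_of_stalks
    (h : ∀ x : X, x ∉ Set.range i → Nonempty (Unique (G.presheaf.stalk x))) : OnePt hi G := by
  have hsub : ∀ W : Opens X, W ≤ complRange hi → ∀ s s' : G.presheaf.obj (op W), s = s' := by
    intro W hW s s'
    apply eq_of_locally G
    intro x hx
    obtain ⟨u⟩ := h x (hW hx)
    have e : gm G x hx s = gm G x hx s' := (u.uniq _).trans (u.uniq _).symm
    obtain ⟨W', hW', hW'', hxW', e'⟩ := (gm_eq_iff x hx hx s s').1 e
    exact ⟨W', hW', hxW', e'⟩
  intro W hW
  refine ⟨?_, hsub W hW⟩
  have key : ∀ x : W, ∃ (V : Opens X) (_ : V ≤ W), x.1 ∈ V ∧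
      Nonempty (G.presheaf.obj (op V)) := by
    intro x
    obtain ⟨u⟩ := h x.1 (hW x.2)
    obtain ⟨V, hxV, s, -⟩ := gm_surj (F := G) x.1 u.default
    exact ⟨V ⊓ W, inf_le_right, ⟨hxV, x.2⟩, ⟨res G inf_le_left s⟩⟩
  choose V hV hxV hne using key
  obtain ⟨s, -⟩ := exists_glue G (V := W) V hV (fun x hx => ⟨⟨x, hx⟩, hxV ⟨x, hx⟩⟩)
    (fun x => (hne x).some)
    (fun x x' => hsub _ (inf_le_left.trans ((hV x).trans hW)) _ _)
  exact ⟨s⟩

theorem stalks_of_onePt (h : OnePt hi G) (x : X) (hx : x ∉ Set.range i) :
    Nonempty (Unique (G.presheaf.stalk x)) := by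
  have hxc : x ∈ complRange hi := hx
  obtain ⟨⟨s₀⟩, -⟩ := h (complRange hi) le_rfl
  refine ⟨{ default := gm G x hxc s₀, uniq := ?_ }⟩
  intro g
  obtain ⟨V, hxV, s, rfl⟩ := gm_surj x g
  rw [gm_eq_iff]
  exact ⟨V ⊓ complRange hi, inf_le_left, inf_le_right, ⟨hxV, hxc⟩, (h _ inf_le_right).2 _ _⟩

theorem onePt_of_iso {F : Z.Sheaf (Type u)} (e : pushObj i F ≅ G) : OnePt hi G := by
  intro W hW
  have hemp := pre_complRange hi W hW
  constructor
  · obtain ⟨t⟩ := nonempty_of_empty F hemp
    exact ⟨e.hom.hom.app (op W) (ofF i F t)⟩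
  · intro s s'
    have h1 : e.hom.hom.app (op W) (e.inv.hom.app (op W) s) = s :=
      congrArg (fun ψ => ψ.hom.app (op W) s) e.inv_hom_id
    have h2 : e.hom.hom.app (op W) (e.inv.hom.app (op W) s') = s' :=
      congrArg (fun ψ => ψ.hom.app (op W) s') e.inv_hom_id
    have h3 : e.inv.hom.app (op W) s = e.inv.hom.app (op W) s' := by
      apply toF_injective i F
      exact eq_of_empty F hemp _ _
    rw [← h1, ← h2, h3]

section SheafZ

/-- the underlying presheaf of the sheaf on `Z` -/
noncomputable def preM : (Opens Z)ᵒᵖ ⥤ Type u := (tilF hi).op ⋙ G.presheaf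

/-- sections of `preM` as sections of `G` -/
def toG {U : Opens Z} (t : (preM hi G).obj (op U)) : G.presheaf.obj (op (til hi U)) := t

/-- sections of `G` as sections of `preM` -/
def ofG {U : Opens Z} (t : G.presheaf.obj (op (til hi U))) : (preM hi G).obj (op U) := t

/-- the covering of `til (⨆ U)` used for gluing -/
def covW {ι : Type u} (U : ι → Opens Z) : Option ι → Opens X
  | some j => til hi (U j)
  | none => til hi (iSup U) ⊓ complRange hi

lemma covW_le {ι : Type u} (U : ι → Opens Z) (o : Option ι) : covW hi U o ≤ til hi (iSup U) := by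
  cases o with
  | none => exact inf_le_left
  | some j => exact til_mono hi (le_iSup U j)

lemma covW_cov {ι : Type u} (U : ι → Opens Z) (x : X) (hx : x ∈ til hi (iSup U)) :
    ∃ o, x ∈ covW hi U o := by
  by_cases hxr : x ∈ Set.range i
  · obtain ⟨z, rfl⟩ := hxr
    have hz : z ∈ iSup U := pre_til_le hi _ hx
    obtain ⟨j, hj⟩ := Opens.mem_iSup.1 hz
    exact ⟨some j, le_pre_til hi (U j) hj⟩
  · exact ⟨none, hx, hxr⟩

variable {G}

theorem preM_isSheaf (hG : OnePt hi G) : TopCat.Presheaf.IsSheaf (preM hi G) := by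
  rw [TopCat.Presheaf.isSheaf_iff_isSheafUniqueGluing]
  intro ι U sf hsf
  have hsf' : ∀ j j', res G (til_mono hi (inf_le_left : U j ⊓ U j' ≤ U j)) (toG hi G (sf j)) =
      res G (til_mono hi (inf_le_right : U j ⊓ U j' ≤ U j')) (toG hi G (sf j')) :=
    fun j j' => hsf j j'
  have hnone : covW hi U none ≤ complRange hi := inf_le_right
  let σ : ∀ o : Option ι, G.presheaf.obj (op (covW hi U o)) := fun o =>
    match o with
    | some j => toG hi G (sf j)
    | none => (hG _ hnone).1.some
  obtain ⟨s, hs⟩ := exists_glue G (covW hi U) (covW_le hi U) (covW_cov hi U) σ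
    (by
      intro o o'
      cases o with
      | none => exact (hG _ (inf_le_left.trans hnone)).2 _ _
      | some j =>
        cases o' with
        | none => exact (hG _ (inf_le_right.trans hnone)).2 _ _
        | some j' =>
          have h1 := congrArg (res G (til_inf_le hi (U j) (U j'))) (hsf' j j')
          rw [res_res, res_res] at h1
          exact h1)
  refine ⟨ofG hi G s, fun j => hs (some j), ?_⟩
  intro s' hs'
  have hs'' : ∀ j, res G (til_mono hi (le_iSup U j)) (toG hi G s') = toG hi G (sf j) :=
    fun j => hs' j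
  show toG hi G s' = s
  apply eq_of_locally G
  intro x hx
  obtain ⟨o, ho⟩ := covW_cov hi U x hx
  cases o with
  | none => exact ⟨covW hi U none, covW_le hi U none, ho, (hG _ hnone).2 _ _⟩
  | some j =>
    exact ⟨covW hi U (some j), covW_le hi U (some j), ho, (hs'' j).trans (hs (some j)).symm⟩

variable (hG : OnePt hi G)

/-- the sheaf on `Z` whose direct image is `G` -/
noncomputable def sheafZ : Z.Sheaf (Type u) := ⟨preM hi G, preM_isSheaf hi hG⟩

/-- sections of `sheafZ` as sections of `G` -/
def toG' {U : Opens Z} (t : (sheafZ hi hG).presheaf.obj (op U)) :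
    G.presheaf.obj (op (til hi U)) := t

/-- sections of `G` as sections of `sheafZ` -/
def ofG' {U : Opens Z} (t : G.presheaf.obj (op (til hi U))) :
    (sheafZ hi hG).presheaf.obj (op U) := t

lemma toG'_res {U U' : Opens Z} (h : U' ≤ U) (t : (sheafZ hi hG).presheaf.obj (op U)) :
    toG' hi hG (res (sheafZ hi hG) h t) = res G (til_mono hi h) (toG' hi hG t) := rfl

/-- the comparison map on sections -/
noncomputable def compApp (V : Opens X)
    (t : (pushObj i (sheafZ hi hG)).presheaf.obj (op V)) : G.presheaf.obj (op V) :=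
  res G (le_til_pre hi V) (toG' hi hG (toF i (sheafZ hi hG) t))

lemma compApp_res {V W : Opens X} (h : W ≤ V)
    (t : (pushObj i (sheafZ hi hG)).presheaf.obj (op V)) :
    compApp hi hG W (res (pushObj i (sheafZ hi hG)) h t) = res G h (compApp hi hG V t) := by
  unfold compApp
  rw [toF_res, toG'_res, res_res, res_res]

lemma compApp_bijective (V : Opens X) : Function.Bijective (compApp hi hG V) := by
  constructor
  · intro t t' h
    apply toF_injective i (sheafZ hi hG)
    show toG' hi hG (toF i (sheafZ hi hG) t) = toG' hi hG (toF i (sheafZ hi hG) t')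
    apply eq_of_locally G
    intro x hx
    by_cases hxr : x ∈ Set.range i
    · obtain ⟨z, rfl⟩ := hxr
      exact ⟨V, le_til_pre hi V, pre_til_le hi (pre i V) hx, h⟩
    · exact ⟨til hi (pre i V) ⊓ complRange hi, inf_le_left, ⟨hx, hxr⟩,
        (hG _ inf_le_right).2 _ _⟩
  · intro s
    let W : Bool → Opens X := fun b => if b then V else til hi (pre i V) ⊓ complRange hi
    have hW : ∀ b, W b ≤ til hi (pre i V) := by
      intro b
      cases b
      · exact inf_le_left
      · exact le_til_pre hi V
    have hWf : W false ≤ complRange hi := inf_le_right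
    obtain ⟨s', hs'⟩ := exists_glue G W hW
      (fun x hx => by
        by_cases hxr : x ∈ Set.range i
        · obtain ⟨z, rfl⟩ := hxr
          exact ⟨true, pre_til_le hi (pre i V) hx⟩
        · exact ⟨false, hx, hxr⟩)
      (fun b => match b with
        | true => s
        | false => (hG _ hWf).1.some)
      (by
        intro b b'
        cases b <;> cases b'
        · rfl
        · exact (hG _ (inf_le_left.trans hWf)).2 _ _
        · exact (hG _ (inf_le_right.trans hWf)).2 _ _
        · rfl)
    exact ⟨ofF i (sheafZ hi hG) (ofG' hi hG s'), hs' true⟩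

/-- the comparison morphism from the direct image of `sheafZ` to `G` -/
noncomputable def compHom : pushObj i (sheafZ hi hG) ⟶ G :=
  ⟨{ app := fun V => ↾(compApp hi hG V.unop)
     naturality := by
      intro V V' f
      refine ConcreteCategory.hom_ext _ _ (fun t => ?_)
      exact compApp_res hi hG (leOfHom f.unop) t }⟩

instance compHom_isIso : IsIso (compHom hi hG) := by
  have h1 : ∀ V : (Opens X)ᵒᵖ, IsIso ((compHom hi hG).hom.app V) := by
    intro V
    rw [isIso_iff_bijective]
    exact compApp_bijective hi hG V.unop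
  have h2 : IsIso (compHom hi hG).hom := NatIso.isIso_of_isIso_app _
  have h3 : IsIso ((sheafToPresheaf (Opens.grothendieckTopology X) (Type u)).map
      (compHom hi hG)) := h2
  exact isIso_of_fully_faithful (sheafToPresheaf (Opens.grothendieckTopology X) (Type u)) _

include hi hG in
theorem essImage_of_onePt : (TopCat.Sheaf.pushforward (Type u) i).essImage G :=
  ⟨sheafZ hi hG, ⟨asIso (compHom hi hG)⟩⟩

end SheafZ

end Groth.Agent.Lib.Helper2.SetSh
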