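import Groth.Agent.Lib.Helper2.SetSh.Closed
import Mathlib.CategoryTheory.Adjunction.Triple

/-!
# Extension by the empty set of sheaves of sets along an open embedding
-/

set_option autoImplicit false
universe u
open CategoryTheory CategoryTheory.Limits Opposite TopologicalSpace

namespace Groth.Agent.Lib.Helper2.SetSh

variable {X : TopCat.{u}} (U : Opens X)

/-- the inclusion of an open subspace -/
abbrev incl : TopCat.of U ⟶ X := TopCat.ofHom ⟨_, continuous_subtype_val⟩

lemma incl_isOpenEmbedding : Topology.IsOpenEmbedding (incl U) := U.isOpenEmbedding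

/-- restriction to the open subspace is left adjoint to the direct image -/
noncomputable def adj₂ :
    U.sheafRestrict (C := Type u) ⊣ TopCat.Sheaf.pushforward (Type u) (incl U) :=
  (TopCat.Sheaf.pullbackPushforwardAdjunction (Type u) (incl U)).ofNatIsoLeft
    (Topology.IsOpenEmbedding.sheafPullbackIso (Type u) (f := incl U) (incl_isOpenEmbedding U))

/-- image of an open of `U` in `X` -/
def jI (W : Opens (TopCat.of U)) : Opens X :=
  ⟨Subtype.val '' (W : Set U), U.isOpenEmbedding.isOpenMap _ W.isOpen⟩

/-- the restriction functor -/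
noncomputable abbrev restrF : X.Sheaf (Type u) ⥤ (TopCat.of U).Sheaf (Type u) :=
  U.sheafRestrict (C := Type u)

/-- sections of the restriction as sections of the sheaf -/
def toR {G : X.Sheaf (Type u)} {W : Opens (TopCat.of U)}
    (t : ((restrF U).obj G).presheaf.obj (op W)) : G.presheaf.obj (op (jI U W)) := t

/-- sections of the sheaf over an image as sections of the restriction -/
def ofR {G : X.Sheaf (Type u)} {W : Opens (TopCat.of U)}
    (t : G.presheaf.obj (op (jI U W))) : ((restrF U).obj G).presheaf.obj (op W) := t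

lemma jI_mono {W W' : Opens (TopCat.of U)} (h : W' ≤ W) : jI U W' ≤ jI U W := by
  rintro x ⟨y, hy, rfl⟩
  exact ⟨y, h hy, rfl⟩

lemma toR_res {G : X.Sheaf (Type u)} {W W' : Opens (TopCat.of U)} (h : W' ≤ W)
    (t : ((restrF U).obj G).presheaf.obj (op W)) :
    toR U (res ((restrF U).obj G) h t) = res G (jI_mono U h) (toR U t) := rfl

lemma restr_map_apply {G H : X.Sheaf (Type u)} (f : G ⟶ H) (W : Opens (TopCat.of U))
    (t : ((restrF U).obj G).presheaf.obj (op W)) :
    toR U (((restrF U).map f).hom.app (op W) t) = f.hom.app (op (jI U W)) (toR U t) := rfl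

lemma toR_injective {G : X.Sheaf (Type u)} {W : Opens (TopCat.of U)} :
    Function.Injective (toR U (G := G) (W := W)) := fun _ _ h => h

lemma pre_jI_le (W : Opens (TopCat.of U)) : pre (incl U) (jI U W) ≤ W := by
  rintro y ⟨y', hy', e⟩
  have : y' = y := Subtype.ext e
  exact this ▸ hy'

lemma le_pre_jI (W : Opens (TopCat.of U)) : W ≤ pre (incl U) (jI U W) :=
  fun y hy => ⟨y, hy, rfl⟩

lemma jI_pre_le (V : Opens X) : jI U (pre (incl U) V) ≤ V := by
  rintro x ⟨y, hy, rfl⟩
  exact hy

lemma jI_le (W : Opens (TopCat.of U)) : jI U W ≤ U := by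
  rintro x ⟨y, -, rfl⟩
  exact y.2

lemma le_jI_pre {V : Opens X} (hV : V ≤ U) : V ≤ jI U (pre (incl U) V) :=
  fun x hx => ⟨⟨x, hV hx⟩, hx, rfl⟩

section FullFaithful

variable {F F' : (TopCat.of U).Sheaf (Type u)}

theorem pushO_faithful : (TopCat.Sheaf.pushforward (Type u) (incl U)).Faithful := by
  constructor
  intro F F' φ φ' h
  apply Sheaf.hom_ext
  apply NatTrans.ext
  funext W
  refine ConcreteCategory.hom_ext _ _ (fun t => ?_)
  induction W with
  | op W =>
    have h0 := congrArg (fun ψ => toF (incl U) F' (ψ.hom.app (op (jI U W))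
        (ofF (incl U) F (res F (pre_jI_le U W) t)))) h
    have h1 : φ.hom.app (op (pre (incl U) (jI U W))) (res F (pre_jI_le U W) t) =
        φ'.hom.app (op (pre (incl U) (jI U W))) (res F (pre_jI_le U W) t) := h0
    have h2 := congrArg (res F' (le_pre_jI U W)) h1
    rw [← hom_res, ← hom_res, res_res, res_self] at h2
    exact h2

/-- the map on sections induced by a morphism of direct images -/
noncomputable def fullAppO (ψ : pushObj (incl U) F ⟶ pushObj (incl U) F')
    (W : Opens (TopCat.of U)) (t : F.presheaf.obj (op W)) : F'.presheaf.obj (op W) :=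
  res F' (le_pre_jI U W)
    (toF (incl U) F' (ψ.hom.app (op (jI U W)) (ofF (incl U) F (res F (pre_jI_le U W) t))))

lemma fullAppO_pre (ψ : pushObj (incl U) F ⟶ pushObj (incl U) F') (V : Opens X)
    (t : (pushObj (incl U) F).presheaf.obj (op V)) :
    fullAppO U ψ (pre (incl U) V) (toF (incl U) F t) = toF (incl U) F' (ψ.hom.app (op V) t) := by
  unfold fullAppO
  have hV : jI U (pre (incl U) V) ≤ V := jI_pre_le U V
  have h1 : ofF (incl U) F (res F (pre_jI_le U (pre (incl U) V)) (toF (incl U) F t)) =
      res (pushObj (incl U) F) hV t := rfl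
  rw [h1, hom_res, toF_res, res_res, res_self]

lemma fullAppO_res (ψ : pushObj (incl U) F ⟶ pushObj (incl U) F') {W W' : Opens (TopCat.of U)}
    (h : W' ≤ W) (t : F.presheaf.obj (op W)) :
    fullAppO U ψ W' (res F h t) = res F' h (fullAppO U ψ W t) := by
  unfold fullAppO
  have hT : jI U W' ≤ jI U W := jI_mono U h
  have h1 : ofF (incl U) F (res F (pre_jI_le U W') (res F h t)) =
      res (pushObj (incl U) F) hT (ofF (incl U) F (res F (pre_jI_le U W) t)) := by
    apply toF_injective (incl U) F
    rw [toF_res, toF_ofF, toF_ofF, res_res, res_res]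
  rw [h1, hom_res, toF_res, res_res, res_res]

/-- the preimage of a morphism of direct images -/
noncomputable def fullHomO (ψ : pushObj (incl U) F ⟶ pushObj (incl U) F') : F ⟶ F' :=
  ⟨{ app := fun W => ↾(fullAppO U ψ W.unop)
     naturality := by
      intro W W' f
      refine ConcreteCategory.hom_ext _ _ (fun t => ?_)
      exact fullAppO_res U ψ (leOfHom f.unop) t }⟩

theorem pushO_full : (TopCat.Sheaf.pushforward (Type u) (incl U)).Full := by
  constructor
  intro F F' ψ
  refine ⟨fullHomO U ψ, ?_⟩
  apply Sheaf.hom_ext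
  apply NatTrans.ext
  funext Y
  refine ConcreteCategory.hom_ext _ _ (fun t => ?_)
  induction Y with
  | op V => exact fullAppO_pre U ψ V t

end FullFaithful

section Left

variable (L : (TopCat.of U).Sheaf (Type u) ⥤ X.Sheaf (Type u)) (adj : L ⊣ restrF U)

include adj in
theorem left_full_faithful : L.Full ∧ L.Faithful := by
  let t : Adjunction.Triple L (restrF U) (TopCat.Sheaf.pushforward (Type u) (incl U)) :=
    ⟨adj, adj₂ U⟩
  have := pushO_full U
  have := pushO_faithful U
  have hH : (TopCat.Sheaf.pushforward (Type u) (incl U)).FullyFaithful :=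
    Functor.FullyFaithful.ofFullyFaithful _
  have hL := t.fullyFaithfulEquiv.symm hH
  exact ⟨hL.full, hL.faithful⟩

end Left

section Ess

/-- the subterminal sheaf of `U` -/
noncomputable def subT : X.Sheaf (Type u) :=
  ⟨yoneda.obj U, by
    show TopCat.Presheaf.IsSheaf (yoneda.obj U : TopCat.Presheaf (Type u) X)
    rw [TopCat.Presheaf.isSheaf_iff_isSheafUniqueGluing]
    intro ι V sf hsf
    have hle : ∀ k, V k ≤ U := fun k => leOfHom (show V k ⟶ U from sf k)
    exact ⟨(homOfLE (iSup_le hle) : iSup V ⟶ U), fun k => Subsingleton.elim (α := V k ⟶ U) _ _,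
      fun _ _ => Subsingleton.elim (α := iSup V ⟶ U) _ _⟩⟩

/-- a section of the subterminal sheaf is an inclusion -/
lemma subT_le {V : Opens X} (s : (subT U).presheaf.obj (op V)) : V ≤ U :=
  leOfHom (show V ⟶ U from s)

/-- an inclusion gives a section of the subterminal sheaf -/
def subT_mk {V : Opens X} (h : V ≤ U) : (subT U).presheaf.obj (op V) :=
  (homOfLE h : V ⟶ U)

lemma subT_eq {V : Opens X} (s s' : (subT U).presheaf.obj (op V)) : s = s' :=
  Subsingleton.elim (α := V ⟶ U) s s'

/-- the morphism from any sheaf on `U` to the restriction of the subterminal sheaf -/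
noncomputable def toSubT (F : (TopCat.of U).Sheaf (Type u)) : F ⟶ (restrF U).obj (subT U) :=
  ⟨{ app := fun W => ↾(fun _ => ofR U (G := subT U) (subT_mk U (jI_le U W.unop)))
     naturality := by
      intro W W' f
      refine ConcreteCategory.hom_ext _ _ (fun t => ?_)
      apply toR_injective U
      exact subT_eq U _ _ }⟩

/-- the sheaf has no sections over opens not contained in `U` -/
def SuppIn (G : X.Sheaf (Type u)) : Prop :=
  ∀ V : Opens X, Nonempty (G.presheaf.obj (op V)) → V ≤ U

variable {U}

theorem suppIn_left (L : (TopCat.of U).Sheaf (Type u) ⥤ X.Sheaf (Type u)) (adj : L ⊣ restrF U)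
    (F : (TopCat.of U).Sheaf (Type u)) : SuppIn U (L.obj F) := by
  rintro V ⟨s⟩
  let g : L.obj F ⟶ subT U := (adj.homEquiv F (subT U)).symm (toSubT U F)
  exact subT_le U (g.hom.app (op V) s)

theorem suppIn_of_iso {G G' : X.Sheaf (Type u)} (e : G ≅ G') (h : SuppIn U G) : SuppIn U G' := by
  rintro V ⟨s⟩
  exact h V ⟨e.inv.hom.app (op V) s⟩

theorem stalk_isEmpty_of_suppIn {G : X.Sheaf (Type u)} (h : SuppIn U G) (x : X) (hx : x ∉ U) :
    IsEmpty (G.presheaf.stalk x) := by
  constructor
  intro g
  obtain ⟨V, hxV, s, -⟩ := gm_surj x g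
  exact hx (h V ⟨s⟩ hxV)

theorem suppIn_of_stalk_isEmpty {G : X.Sheaf (Type u)}
    (h : ∀ x : X, x ∉ U → IsEmpty (G.presheaf.stalk x)) : SuppIn U G := by
  rintro V ⟨s⟩ x hxV
  by_contra hxU
  exact (h x hxU).false (gm G x hxV s)

variable {G H : X.Sheaf (Type u)} (hG : SuppIn U G)

include hG in
theorem restr_map_injective (f f' : G ⟶ H) (h : (restrF U).map f = (restrF U).map f') :
    f = f' := by
  apply Sheaf.hom_ext
  apply NatTrans.ext
  funext V
  refine ConcreteCategory.hom_ext _ _ (fun s => ?_)
  induction V with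
  | op V =>
    have hV : V ≤ U := hG V ⟨s⟩
    have hle : V ≤ jI U (pre (incl U) V) := le_jI_pre U hV
    have hge : jI U (pre (incl U) V) ≤ V := jI_pre_le U V
    have h0 := congrArg (fun ψ => toR U (ψ.hom.app (op (pre (incl U) V))
      (ofR U (res G hge s)))) h
    have h1 : f.hom.app (op (jI U (pre (incl U) V))) (res G hge s) =
        f'.hom.app (op (jI U (pre (incl U) V))) (res G hge s) := h0
    have h2 := congrArg (res H hle) h1
    rw [← hom_res, ← hom_res, res_res, res_self] at h2
    exact h2

/-- extension of a morphism between restrictions, on sections -/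
noncomputable def extApp (g : (restrF U).obj G ⟶ (restrF U).obj H) (V : Opens X)
    (s : G.presheaf.obj (op V)) : H.presheaf.obj (op V) :=
  res H (le_jI_pre U (hG V ⟨s⟩))
    (toR U (g.hom.app (op (pre (incl U) V)) (ofR U (res G (jI_pre_le U V) s))))

lemma extApp_res (g : (restrF U).obj G ⟶ (restrF U).obj H) {V V' : Opens X} (h : V' ≤ V)
    (s : G.presheaf.obj (op V)) :
    extApp hG g V' (res G h s) = res H h (extApp hG g V s) := by
  unfold extApp
  have h1 : ofR U (res G (jI_pre_le U V') (res G h s)) =
      res ((restrF U).obj G) (pre_mono (incl U) h) (ofR U (res G (jI_pre_le U V) s)) := by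
    apply toR_injective U
    rw [toR_res]
    show res G _ (res G h s) = res G _ (res G _ s)
    rw [res_res, res_res]
  rw [h1, hom_res, toR_res, res_res, res_res]

/-- extension of a morphism between restrictions -/
noncomputable def extHom (g : (restrF U).obj G ⟶ (restrF U).obj H) : G ⟶ H :=
  ⟨{ app := fun V => ↾(extApp hG g V.unop)
     naturality := by
      intro V V' f
      refine ConcreteCategory.hom_ext _ _ (fun s => ?_)
      exact extApp_res hG g (leOfHom f.unop) s }⟩

lemma restr_extHom (g : (restrF U).obj G ⟶ (restrF U).obj H) :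
    (restrF U).map (extHom hG g) = g := by
  apply Sheaf.hom_ext
  apply NatTrans.ext
  funext W
  refine ConcreteCategory.hom_ext _ _ (fun t => ?_)
  induction W with
  | op W =>
    apply toR_injective U
    rw [restr_map_apply]
    show extApp hG g (jI U W) (toR U t) = toR U (g.hom.app (op W) t)
    unfold extApp
    have h1 : ofR U (res G (jI_pre_le U (jI U W)) (toR U t)) =
        res ((restrF U).obj G) (pre_jI_le U W) t := rfl
    rw [h1, hom_res, toR_res, res_res, res_self]

include hG in
theorem counit_isIso (L : (TopCat.of U).Sheaf (Type u) ⥤ X.Sheaf (Type u))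
    (adj : L ⊣ restrF U) : IsIso (adj.counit.app G) := by
  rw [isIso_iff_coyoneda_map_bijective]
  intro H
  have hb : Function.Bijective (fun f : G ⟶ H => (restrF U).map f) :=
    ⟨fun f f' h => restr_map_injective hG f f' h, fun g => ⟨extHom hG g, restr_extHom hG g⟩⟩
  have key : ∀ f : G ⟶ H,
      adj.homEquiv _ _ (adj.counit.app G ≫ f) = (restrF U).map f := by
    intro f
    rw [Adjunction.homEquiv_unit, Functor.map_comp, ← Category.assoc,
      adj.right_triangle_components, Category.id_comp]
  have h2 : Function.Bijective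
      (fun f : G ⟶ H => adj.homEquiv _ _ (adj.counit.app G ≫ f)) := by
    have : (fun f : G ⟶ H => adj.homEquiv _ _ (adj.counit.app G ≫ f)) =
        fun f : G ⟶ H => (restrF U).map f := funext key
    rw [this]
    exact hb
  exact (Function.Bijective.of_comp_iff' (adj.homEquiv _ _).bijective _).1 h2

include hG in
theorem essImage_of_suppIn (L : (TopCat.of U).Sheaf (Type u) ⥤ X.Sheaf (Type u))
    (adj : L ⊣ restrF U) : L.essImage G := by
  have := counit_isIso hG L adj
  exact ⟨(restrF U).obj G, ⟨asIso (adj.counit.app G)⟩⟩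

end Ess

end Groth.Agent.Lib.Helper2.SetSh
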